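/-
Jacobson's formula and existence of p-mappings.
Main results: `jacobson_assoc` ((a+b)^p = a^p + b^p - J(a,b)), `ad_jacobson`, `jacobson_symm`, `jacobson_cocycle`,
`exists_pmap_basis` (ad (b i)^p = ad (y i) gives a p-mapping), `pmap_ext_basis`.
-/
import Mathlib
import Groth.Prelude.Def_PLie

set_option autoImplicit false

universe u v w

namespace Groth.Agent.PLieLib

open scoped TensorProduct BigOperators
open PLie

attribute [local instance] LieRing.ofAssociativeRing

variable {R : Type u} [CommRing R] {p : ℕ} [Fact p.Prime] [CharP R p]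

section Words

variable {L : Type v} [LieRing L] [LieAlgebra R L] {L' : Type w} [LieRing L'] [LieAlgebra R L']

omit [Fact p.Prime] [CharP R p] in
theorem map_word (f : L →ₗ[R] L') (hf : ∀ x y, f ⁅x, y⁆ = ⁅f x, f y⁆) (x : Bool → L) (x₁ : L) :
    ∀ l : List Bool, f (bracketWord x x₁ l) = bracketWord (fun i => f (x i)) (f x₁) l
  | [] => rfl
  | i :: l => by simp [hf, map_word f hf x x₁ l]

omit [Fact p.Prime] in
theorem map_jacobson (f : L →ₗ[R] L') (hf : ∀ x y, f ⁅x, y⁆ = ⁅f x, f y⁆) (x y : L) :
    f (jacobson R p x y) = jacobson R p (f x) (f y) := by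
  simp only [jacobson, map_sum, map_smul, map_word f hf]
  congr! with t ht i
  cases i <;> rfl

omit [CharP R p] in
theorem word_eq_zero (x : Bool → L) (x₁ : L) (h : ∀ i, ⁅x i, x₁⁆ = 0) :
    ∀ l : List Bool, l ≠ [] → bracketWord x x₁ l = 0
  | [], h' => absurd rfl h'
  | [i], _ => by simp [h]
  | i :: j :: l, _ => by
    rw [bracketWord_cons, word_eq_zero x x₁ h (j :: l) (by simp), lie_zero]

theorem jacobson_eq_zero {x y : L} (h : ⁅x, y⁆ = 0) : jacobson R p x y = 0 := by
  refine Finset.sum_eq_zero fun t _ => ?_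
  rw [word_eq_zero, smul_zero]
  · rintro (_|_) <;> simp [pair, h]
  · have := (Fact.out : p.Prime).two_le
    intro h'
    have := congrArg List.length h'
    simp at this; omega

omit [Fact p.Prime] [CharP R p] in
theorem word_smul (c : R) (x : Bool → L) (x₁ : L) :
    ∀ l : List Bool, bracketWord (fun i => c • x i) (c • x₁) l = c ^ (l.length + 1) • bracketWord x x₁ l
  | [] => by simp
  | i :: l => by simp [word_smul c x x₁ l, smul_smul, pow_succ]

theorem jacobson_smul (c : R) (x y : L) : jacobson R p (c • x) (c • y) = c ^ p • jacobson R p x y := by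
  have hp : p - 1 + 1 = p := by have := (Fact.out : p.Prime).two_le; omega
  simp only [jacobson, Finset.smul_sum]
  refine Finset.sum_congr rfl fun t _ => ?_
  have : pair (c • x) (c • y) = fun i => c • pair x y i := by funext i; cases i <;> rfl
  rw [this, word_smul, List.length_ofFn, hp, smul_comm]

theorem jacobson_smul_smul (a b : R) (x : L) : jacobson R p (a • x) (b • x) = 0 :=
  jacobson_eq_zero (by simp)

end Words

section Assoc

variable {A : Type v} [Ring A] [Algebra R A]

theorem choose_pred_cast : ∀ i : ℕ, i < p → ((p - 1).choose i : R) = (-1) ^ i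
  | 0, _ => by simp
  | i + 1, h => by
    have hp := (Fact.out : p.Prime)
    have h1 : ((p.choose (i + 1) : ℕ) : R) = 0 :=
      (CharP.cast_eq_zero_iff R p _).2 (hp.dvd_choose_self (by omega) h)
    have h2 : p.choose (i + 1) = (p - 1).choose i + (p - 1).choose (i + 1) := by
      conv_lhs => rw [show p = (p - 1) + 1 by omega, Nat.choose_succ_succ]
    rw [h2, Nat.cast_add, choose_pred_cast i (by omega)] at h1
    rw [pow_succ]
    linear_combination h1

theorem sub_pow_pred_apply (P Q : A) :
    ((LinearMap.mulLeft R P - LinearMap.mulRight R P) ^ (p - 1)) Q =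
      ∑ i ∈ Finset.range p, P ^ i * Q * P ^ (p - 1 - i) := by
  have hp := (Fact.out : p.Prime)
  have hc : Commute (LinearMap.mulLeft R P) (-(LinearMap.mulRight R P)) :=
    (LinearMap.commute_mulLeft_right P P).neg_right
  rw [sub_eq_add_neg, hc.add_pow, show p - 1 + 1 = p by have := hp.two_le; omega, LinearMap.sum_apply]
  refine Finset.sum_congr rfl fun i hi => ?_
  have hi' := Finset.mem_range.1 hi
  have hcast : (((p - 1).choose i : ℕ) : Module.End R A) = (-1) ^ i := by
    have h := congrArg (algebraMap R (Module.End R A)) (choose_pred_cast (R := R) i hi')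
    simpa using h
  have h1 : ((-1 : R)) ^ (p - 1) = 1 := by
    rw [← choose_pred_cast (R := R) (p - 1) (by omega), Nat.choose_self, Nat.cast_one]
  have h2 : ((-1 : Module.End R A)) ^ (p - 1) = 1 := by
    have h := congrArg (algebraMap R (Module.End R A)) h1
    simpa using h
  rw [hcast, neg_pow, mul_assoc, mul_assoc,
    ((Commute.one_right (LinearMap.mulRight R P ^ (p - 1 - i))).neg_right.pow_right i).eq,
    ← mul_assoc ((-1 : Module.End R A) ^ (p - 1 - i)), ← pow_add,
    show p - 1 - i + i = p - 1 by omega, h2, one_mul, LinearMap.pow_mulLeft, LinearMap.pow_mulRight]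
  simp [mul_assoc]

theorem derivative_pow_eq (P Q : Polynomial A) (h : Polynomial.derivative P = Q) :
    ∀ n : ℕ, Polynomial.derivative (P ^ n) = ∑ i ∈ Finset.range n, P ^ i * Q * P ^ (n - 1 - i)
  | 0 => by simp
  | n + 1 => by
    rw [pow_succ, Polynomial.derivative_mul, derivative_pow_eq P Q h n, h, Finset.sum_range_succ,
      Finset.sum_mul]
    simp only [add_tsub_cancel_right, Nat.sub_self, pow_zero, mul_one]
    refine congrArg (· + _) (Finset.sum_congr rfl fun i hi => ?_)
    have := Finset.mem_range.1 hi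
    rw [mul_assoc, ← pow_succ, show n - 1 - i + 1 = n - i by omega]

/-- number of `true` values -/
def cnt {n : ℕ} (t : Fin n → Bool) : ℕ := ∑ i, if t i then 1 else 0

theorem ad_pow_expand (a b : A) : ∀ n : ℕ,
    (((LinearMap.mulLeft R (Polynomial.C a + Polynomial.X * Polynomial.C b) -
      LinearMap.mulRight R (Polynomial.C a + Polynomial.X * Polynomial.C b)) :
        Module.End R (Polynomial A)) ^ n) (Polynomial.C b) =
      ∑ t : Fin n → Bool, Polynomial.monomial (cnt t) (bracketWord (pair a b) b (List.ofFn t))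
  | 0 => by simp [cnt]
  | n + 1 => by
    rw [pow_succ', Module.End.mul_apply, ad_pow_expand a b n, map_sum,
      ← (Fin.consEquiv fun _ => Bool).sum_comp, Fintype.sum_prod_type, Fintype.sum_bool,
      ← Finset.sum_add_distrib]
    refine Finset.sum_congr rfl fun t _ => ?_
    simp only [Fin.consEquiv_apply, List.ofFn_succ, Fin.cons_zero, Fin.cons_succ, bracketWord_cons,
      cnt, Fin.sum_univ_succ, pair, if_true, Bool.false_eq_true, if_false, zero_add,
      LinearMap.sub_apply, LinearMap.mulLeft_apply, LinearMap.mulRight_apply,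
      LieRing.of_associative_ring_bracket, Polynomial.X_mul_C]
    rw [Polynomial.C_mul_X_eq_monomial, ← Polynomial.monomial_zero_left, add_mul, mul_add]
    simp only [Polynomial.monomial_mul_monomial, map_sub, zero_add, add_zero]
    rw [add_comm 1 (∑ i, if t i = true then 1 else 0)]
    abel

theorem card_false_add_cnt {n : ℕ} (t : Fin n → Bool) :
    Fintype.card {i // t i = false} + cnt t = n := by
  rw [Fintype.card_subtype, Finset.card_filter, cnt, ← Finset.sum_add_distrib]
  rw [Finset.sum_congr rfl (fun i _ => ?_ : ∀ i ∈ Finset.univ, _ = 1)]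
  · simp
  · cases t i <;> simp

/-- Jacobson's formula. -/
theorem jacobson_assoc (a b : A) : (a + b) ^ p = a ^ p + b ^ p - jacobson R p a b := by
  have hp := (Fact.out : p.Prime)
  set P := Polynomial.C a + Polynomial.X * Polynomial.C b with hP
  let c : (Fin (p - 1) → Bool) → R := fun t =>
    (ZMod.castHom (dvd_refl p) R) ((Fintype.card {i // t i = false} : ZMod p)⁻¹)
  have hd : Polynomial.derivative (P ^ p) =
      ∑ t : Fin (p - 1) → Bool,
        Polynomial.monomial (cnt t) (bracketWord (pair a b) b (List.ofFn t)) := by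
    rw [derivative_pow_eq P (Polynomial.C b) (by simp [hP, Polynomial.derivative_mul]) p,
      ← ad_pow_expand (R := R) a b (p - 1), sub_pow_pred_apply]
  have hdeg : P.natDegree ≤ 1 := by
    refine (Polynomial.natDegree_add_le _ _).trans (max_le (by simp) ?_)
    exact Polynomial.natDegree_mul_le.trans (by simp [Polynomial.natDegree_X_le])
  have hcoef : ∀ k, k + 1 < p → (P ^ p).coeff (k + 1) =
      ∑ t : Fin (p - 1) → Bool,
        if cnt t = k then -(c t • bracketWord (pair a b) b (List.ofFn t)) else 0 := by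
    intro k hk
    have h1 := congrArg (fun q => Polynomial.coeff q k) hd
    simp only [Polynomial.coeff_derivative, Polynomial.finsetSum_coeff,
      Polynomial.coeff_monomial] at h1
    let r : R := ZMod.castHom (dvd_refl p) R ((k + 1 : ℕ) : ZMod p)⁻¹
    have hne : ((k + 1 : ℕ) : ZMod p) ≠ 0 := by
      rw [Ne, ZMod.natCast_eq_zero_iff]
      exact fun h => absurd (Nat.le_of_dvd (by omega) h) (by omega)
    have hr : r * ((k + 1 : ℕ) : R) = 1 := by
      rw [← map_natCast (ZMod.castHom (dvd_refl p) R) (k + 1), ← map_mul, inv_mul_cancel₀ hne,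
        map_one]
    have h2 : (P ^ p).coeff (k + 1) = r • ((P ^ p).coeff (k + 1) * ((k : A) + 1)) := by
      rw [← Nat.cast_succ, ← (Nat.cast_commute (k + 1) _).eq, ← nsmul_eq_mul,
        ← Nat.cast_smul_eq_nsmul R, smul_smul, hr, one_smul]
    rw [h2, h1, Finset.smul_sum]
    refine Finset.sum_congr rfl fun t _ => ?_
    split_ifs with ht
    · rw [← neg_smul]
      congr 1
      have h3 : ((Fintype.card {i // t i = false} : ℕ) : ZMod p) = -((k + 1 : ℕ) : ZMod p) := by
        rw [eq_neg_iff_add_eq_zero, ← Nat.cast_add, ← ht]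
        have := card_false_add_cnt t
        rw [show Fintype.card {i // t i = false} + (cnt t + 1) = p by omega]
        exact ZMod.natCast_self p
      simp only [r, c, h3, inv_neg, map_neg, neg_neg]
    · simp
  let ev : Polynomial A →+* A :=
    Polynomial.eval₂RingHom' (RingHom.id A) 1 (fun x => Commute.one_right x)
  have hev : (a + b) ^ p = ∑ k ∈ Finset.range (p + 1), (P ^ p).coeff k := by
    have h1 : ev (P ^ p) = (a + b) ^ p := by
      rw [map_pow]
      congr 1
      simp [ev, hP]
    rw [← h1]
    have h2 : (P ^ p).natDegree < p + 1 :=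
      Nat.lt_succ_of_le ((Polynomial.natDegree_pow_le_of_le p hdeg).trans (by simp))
    change Polynomial.eval₂ (RingHom.id A) 1 (P ^ p) = _
    rw [Polynomial.eval₂_eq_sum_range' _ h2]
    simp
  have h0 : (P ^ p).coeff 0 = a ^ p := by
    rw [← Polynomial.constantCoeff_apply, map_pow]
    simp [hP]
  have hpp : (P ^ p).coeff p = b ^ p := by
    have := Polynomial.coeff_pow_of_natDegree_le hdeg (m := p)
    rw [mul_one] at this
    rw [this]
    simp [hP]
  rw [hev, Finset.sum_range_succ, hpp,
    show Finset.range p = Finset.range ((p - 1) + 1) by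
      rw [show p - 1 + 1 = p by have := hp.two_le; omega],
    Finset.sum_range_succ', h0,
    Finset.sum_congr rfl (fun k hk => hcoef k (by have := Finset.mem_range.1 hk; omega)),
    Finset.sum_comm]
  have key : ∀ t : Fin (p - 1) → Bool,
      (∑ k ∈ Finset.range (p - 1),
        if cnt t = k then -(c t • bracketWord (pair a b) b (List.ofFn t)) else 0) =
        -(c t • bracketWord (pair a b) b (List.ofFn t)) := by
    intro t
    rw [Finset.sum_ite_eq]
    split_ifs with h
    · rfl
    · have := card_false_add_cnt t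
      have h0 : Fintype.card {i // t i = false} = 0 := by
        simp only [Finset.mem_range] at h; omega
      simp only [c, h0, Nat.cast_zero, inv_zero, map_zero, zero_smul, neg_zero]
  rw [Finset.sum_congr rfl (fun t _ => key t), Finset.sum_neg_distrib]
  simp only [jacobson, c]
  abel

end Assoc

section Lie

variable {L : Type v} [LieRing L] [LieAlgebra R L]

theorem map_jacobson_assoc {A : Type w} [Ring A] [Algebra R A] (f : L →ₗ[R] A)
    (hf : ∀ x y, f ⁅x, y⁆ = f x * f y - f y * f x) (x y : L) :
    f (jacobson R p x y) = f x ^ p + f y ^ p - (f x + f y) ^ p := by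
  rw [map_jacobson f (fun a b => by rw [hf, LieRing.of_associative_ring_bracket]) x y,
    jacobson_assoc (R := R)]
  abel

theorem ad_jacobson (x y : L) :
    LieAlgebra.ad R L (jacobson R p x y) =
      LieAlgebra.ad R L x ^ p + LieAlgebra.ad R L y ^ p - LieAlgebra.ad R L (x + y) ^ p := by
  have := map_jacobson_assoc (p := p) (LieAlgebra.ad R L).toLinearMap
    (fun a b => (LieHom.map_lie (LieAlgebra.ad R L) a b).trans rfl) x y
  simpa [map_add] using this

variable (R L)

abbrev Pol := MvPolynomial (Fin 3) R ⊗[R] L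

noncomputable def evL (v : Fin 3 → R) : Pol R L →ₗ[R] L :=
  (TensorProduct.lid R L).toLinearMap ∘ₗ LinearMap.rTensor L (MvPolynomial.aeval v).toLinearMap

noncomputable def cf (m : Fin 3 →₀ ℕ) : Pol R L →ₗ[R] L :=
  (TensorProduct.lid R L).toLinearMap ∘ₗ LinearMap.rTensor L (MvPolynomial.lcoeff R m)

noncomputable def Dv (i : Fin 3) : Pol R L →ₗ[R] Pol R L :=
  LinearMap.rTensor L ((LinearMap.mulLeft R (MvPolynomial.X i : MvPolynomial (Fin 3) R)) ∘ₗ
    (MvPolynomial.pderiv i).toLinearMap)

/-- homogeneous elements -/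
noncomputable def Hm (n : ℕ) : Submodule R (Pol R L) :=
  Submodule.span R {z | ∃ (m : Fin 3 →₀ ℕ) (x : L), (∑ i, m i) = n ∧
    z = MvPolynomial.monomial m (1 : R) ⊗ₜ x}

variable {R L}

theorem pol_add_lie (a b c : Pol R L) : ⁅a + b, c⁆ = ⁅a, c⁆ + ⁅b, c⁆ := add_lie a b c
theorem pol_lie_add (a b c : Pol R L) : ⁅a, b + c⁆ = ⁅a, b⁆ + ⁅a, c⁆ := lie_add a b c
theorem pol_zero_lie (a : Pol R L) : ⁅(0 : Pol R L), a⁆ = 0 := zero_lie a
theorem pol_lie_zero (a : Pol R L) : ⁅a, (0 : Pol R L)⁆ = 0 := lie_zero a
theorem pol_smul_lie (r : R) (a b : Pol R L) : ⁅r • a, b⁆ = r • ⁅a, b⁆ := smul_lie r a b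
theorem pol_lie_smul (r : R) (a b : Pol R L) : ⁅a, r • b⁆ = r • ⁅a, b⁆ := lie_smul r a b

theorem evL_lie (v : Fin 3 → R) (x y : Pol R L) : evL R L v ⁅x, y⁆ = ⁅evL R L v x, evL R L v y⁆ := by
  induction x using TensorProduct.induction_on with
  | zero => simp [pol_zero_lie]
  | add a b ha hb => simp [pol_add_lie, ha, hb]
  | tmul f a =>
    induction y using TensorProduct.induction_on with
    | zero => simp [pol_lie_zero]
    | add c d hc hd => simp only [pol_lie_add, lie_add, map_add, hc, hd]
    | tmul g b =>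
      simp [evL, LieAlgebra.ExtendScalars.bracket_tmul, smul_smul, mul_comm]

theorem Dv_lie (i : Fin 3) (x y : Pol R L) :
    Dv R L i ⁅x, y⁆ = ⁅Dv R L i x, y⁆ + ⁅x, Dv R L i y⁆ := by
  induction x using TensorProduct.induction_on with
  | zero => simp [pol_zero_lie]
  | add a b ha hb => simp only [pol_add_lie, map_add, ha, hb]; abel
  | tmul f a =>
    induction y using TensorProduct.induction_on with
    | zero => simp [pol_lie_zero]
    | add c d hc hd => simp only [pol_lie_add, lie_add, map_add, hc, hd]; abel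
    | tmul g b =>
      simp only [Dv, LieAlgebra.ExtendScalars.bracket_tmul, LinearMap.rTensor_tmul,
        LinearMap.comp_apply, LinearMap.mulLeft_apply, Derivation.coeFn_coe, Derivation.leibniz, smul_eq_mul, ← TensorProduct.add_tmul]
      congr 1
      ring

theorem lie_mem_Hm {a b : ℕ} {x y : Pol R L} (hx : x ∈ Hm R L a) (hy : y ∈ Hm R L b) :
    ⁅x, y⁆ ∈ Hm R L (a + b) := by
  induction hx using Submodule.span_induction with
  | mem x hx =>
    obtain ⟨m, u, hm, rfl⟩ := hx
    induction hy using Submodule.span_induction with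
    | mem y hy =>
      obtain ⟨n, w, hn, rfl⟩ := hy
      rw [LieAlgebra.ExtendScalars.bracket_tmul, MvPolynomial.monomial_mul, mul_one]
      exact Submodule.subset_span ⟨m + n, _, by simp [Finset.sum_add_distrib, hm, hn], rfl⟩
    | zero => simp [pol_lie_zero]
    | add c d _ _ hc hd => rw [pol_lie_add]; exact add_mem hc hd
    | smul r c _ hc => rw [pol_lie_smul]; exact Submodule.smul_mem _ _ hc
  | zero => simp [pol_zero_lie]
  | add c d _ _ hc hd => rw [pol_add_lie]; exact add_mem hc hd
  | smul r c _ hc => rw [pol_smul_lie]; exact Submodule.smul_mem _ _ hc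

theorem word_mem_Hm (x : Bool → Pol R L) (x₁ : Pol R L) (hx : ∀ i, x i ∈ Hm R L 1)
    (h₁ : x₁ ∈ Hm R L 1) : ∀ l : List Bool, bracketWord x x₁ l ∈ Hm R L (l.length + 1)
  | [] => by simpa using h₁
  | i :: l => by
    rw [bracketWord_cons, List.length_cons, add_comm l.length 1, add_assoc]
    exact lie_mem_Hm (hx i) (word_mem_Hm x x₁ hx h₁ l)

theorem jacobson_mem_Hm {x y : Pol R L} (hx : x ∈ Hm R L 1) (hy : y ∈ Hm R L 1) :
    jacobson R p x y ∈ Hm R L p := by
  refine Submodule.sum_mem _ fun t _ => Submodule.smul_mem _ _ ?_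
  have := word_mem_Hm (pair x y) y (by rintro (_|_) <;> assumption) hy (List.ofFn t)
  rwa [List.length_ofFn, show p - 1 + 1 = p by
    have := (Fact.out : p.Prime).two_le; omega] at this

theorem cf_Dv (i : Fin 3) (m : Fin 3 →₀ ℕ) {n : ℕ} {z : Pol R L} (hz : z ∈ Hm R L n) :
    cf R L m (Dv R L i z) = (m i : R) • cf R L m z := by
  induction hz using Submodule.span_induction with
  | mem z hz =>
    obtain ⟨k, x, hk, rfl⟩ := hz
    have hd : (MvPolynomial.X i : MvPolynomial (Fin 3) R) *
        MvPolynomial.pderiv i (MvPolynomial.monomial k 1) = MvPolynomial.monomial k (k i : R) := by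
      rw [MvPolynomial.pderiv_monomial, one_mul]
      rcases Nat.eq_zero_or_pos (k i) with h | h
      · simp [h]
      · rw [MvPolynomial.X, MvPolynomial.monomial_mul, one_mul]
        refine congrArg (fun s => MvPolynomial.monomial s _) (Finsupp.ext fun j => ?_)
        by_cases hj : i = j
        · subst hj; simp; omega
        · simp [Finsupp.single_eq_of_ne hj, Finsupp.single_eq_of_ne' hj]
    simp only [cf, Dv, LinearMap.comp_apply, LinearMap.rTensor_tmul, LinearEquiv.coe_coe,
      LinearMap.mulLeft_apply, Derivation.coeFn_coe, hd,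
      MvPolynomial.lcoeff_apply, MvPolynomial.coeff_monomial, TensorProduct.lid_tmul]
    split_ifs with h
    · subst h; simp
    · simp
  | zero => simp
  | add c d _ _ hc hd => simp [hc, hd]
  | smul r c _ hc => simp only [map_smul, hc]; rw [smul_comm]

theorem evL_eq_sum {n : ℕ} (v : Fin 3 → R) {z : Pol R L} (hz : z ∈ Hm R L n) :
    evL R L v z = ∑ m ∈ Finset.univ.finsuppAntidiag n, (∏ i, v i ^ m i) • cf R L m z := by
  induction hz using Submodule.span_induction with
  | mem z hz =>
    obtain ⟨k, x, hk, rfl⟩ := hz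
    rw [Finset.sum_eq_single k]
    · simp [evL, cf, MvPolynomial.aeval_monomial, Finsupp.prod_fintype]
    · intro m _ hm
      simp [cf, MvPolynomial.coeff_monomial, Ne.symm hm]
    · intro h
      exact absurd (Finset.mem_finsuppAntidiag.2 ⟨hk, Finset.subset_univ _⟩) h
  | zero => simp
  | add c d _ _ hc hd => simp [hc, hd, Finset.sum_add_distrib]
  | smul r c _ hc =>
    simp only [map_smul, hc, Finset.smul_sum]
    exact Finset.sum_congr rfl fun m _ => smul_comm _ _ _

theorem vanish {z : Pol R L} (hz : z ∈ Hm R L p) (hD : ∀ i, Dv R L i z = 0)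
    (hev : ∀ j, evL R L (Pi.single j 1) z = 0) : evL R L (fun _ => 1) z = 0 := by
  have hp := (Fact.out : p.Prime)
  have h0 : ∀ m : Fin 3 →₀ ℕ, (∑ i, m i) = p →
      (∀ j, m ≠ Finsupp.single j p) → cf R L m z = 0 := by
    intro m hm hs
    obtain ⟨i, hi⟩ : ∃ i, ¬ p ∣ m i := by
      by_contra! hall
      obtain ⟨j, hj⟩ : ∃ j, m j ≠ 0 := by
        by_contra! h
        rw [Finset.sum_eq_zero (fun i _ => h i)] at hm
        exact hp.ne_zero hm.symm
      have hjp : p ≤ m j := Nat.le_of_dvd (Nat.pos_of_ne_zero hj) (hall j)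
      refine hs j (Finsupp.ext fun k => ?_)
      have hsum := Finset.add_sum_erase Finset.univ (fun i => m i) (Finset.mem_univ j)
      by_cases hk : j = k
      · subst hk; simp only [Finsupp.single_eq_same]; omega
      · have : m k ≤ ∑ i ∈ Finset.univ.erase j, m i :=
          Finset.single_le_sum (f := fun i => m i) (fun i _ => Nat.zero_le _)
            (Finset.mem_erase.2 ⟨Ne.symm hk, Finset.mem_univ k⟩)
        rw [Finsupp.single_eq_of_ne' hk]; omega
    have h1 := cf_Dv i m hz
    rw [hD i, map_zero] at h1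
    have hne : ((m i : ℕ) : ZMod p) ≠ 0 := fun h => hi ((ZMod.natCast_eq_zero_iff _ _).1 h)
    have h2 := congrArg (fun w => ZMod.castHom (dvd_refl p) R ((m i : ZMod p))⁻¹ • w) h1
    simp only [smul_zero, smul_smul] at h2
    rw [← map_natCast (ZMod.castHom (dvd_refl p) R) (m i), ← map_mul, inv_mul_cancel₀ hne,
      map_one, one_smul] at h2
    exact h2.symm
  rw [evL_eq_sum _ hz]
  refine Finset.sum_eq_zero fun m hm => ?_
  have hm' := (Finset.mem_finsuppAntidiag.1 hm).1
  by_cases hs : ∃ j, m = Finsupp.single j p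
  · obtain ⟨j, rfl⟩ := hs
    have h := hev j
    rw [evL_eq_sum _ hz, Finset.sum_eq_single (Finsupp.single j p)] at h
    · simpa [Finsupp.single_apply, Finset.prod_eq_one, Pi.single_apply] using h
    · intro n hn hne
      by_cases hs' : ∃ k, n = Finsupp.single k p
      · obtain ⟨k, rfl⟩ := hs'
        have hjk : k ≠ j := fun h => hne (by rw [h])
        rw [Finset.prod_eq_zero (Finset.mem_univ k), zero_smul]
        rw [Pi.single_eq_of_ne hjk, Finsupp.single_eq_same, zero_pow hp.ne_zero]
      · rw [h0 n (Finset.mem_finsuppAntidiag.1 hn).1 (not_exists.1 hs'), smul_zero]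
    · exact fun h => absurd hm h
  · rw [h0 m hm' (not_exists.1 hs), smul_zero]

variable (R L) in
/-- `x ↦ ([x, ·], D x)` -/
noncomputable def rho (i : Fin 3) : Pol R L →ₗ[R] Module.End R (Pol R L × R) :=
  LinearMap.mk₂ R (fun x m => ((⁅x, m.1⁆ + m.2 • Dv R L i x, 0) : Pol R L × R))
    (fun x x' m => by ext <;> simp [pol_add_lie, smul_add]; abel)
    (fun c x m => by ext <;> simp [pol_smul_lie, smul_add, smul_comm c])
    (fun x m m' => by ext <;> simp [pol_lie_add, add_smul]; abel)
    (fun c x m => by ext <;> simp [pol_lie_smul, smul_add, smul_smul])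

theorem rho_lie (i : Fin 3) (x y : Pol R L) :
    rho R L i ⁅x, y⁆ = rho R L i x * rho R L i y - rho R L i y * rho R L i x := by
  refine LinearMap.ext fun m => Prod.ext ?_ (by simp [rho])
  have h1 : ⁅⁅x, y⁆, m.1⁆ = ⁅x, ⁅y, m.1⁆⁆ - ⁅y, ⁅x, m.1⁆⁆ := lie_lie x y m.1
  have h2 : ⁅Dv R L i x, y⁆ = -⁅y, Dv R L i x⁆ := (lie_skew _ _).symm
  simp only [rho, LinearMap.mk₂_apply, LinearMap.sub_apply, Module.End.mul_apply, Prod.fst_sub,
    h1, Dv_lie, pol_lie_add, pol_lie_smul, zero_smul, add_zero, smul_add, h2, smul_neg]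
  abel

theorem Dv_eq_zero_of_rho {i : Fin 3} {z : Pol R L} (h : rho R L i z = 0) : Dv R L i z = 0 := by
  have := congrArg (fun f : Module.End R (Pol R L × R) => (f (0, 1)).1) h
  simpa [rho, pol_lie_zero] using this

theorem rho_jacobson (i : Fin 3) (u v : Pol R L) :
    rho R L i (jacobson R p u v) =
      rho R L i u ^ p + rho R L i v ^ p - (rho R L i u + rho R L i v) ^ p := by
  refine map_jacobson_assoc (R := R) (L := Pol R L) (A := Module.End R (Pol R L × R)) (rho R L i) ?_ u v
  intro a b
  exact rho_lie i a b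

noncomputable def gen (j : Fin 3) (x : L) : Pol R L := MvPolynomial.X j ⊗ₜ x

theorem gen_mem (j : Fin 3) (x : L) : gen (R := R) j x ∈ Hm R L 1 :=
  Submodule.subset_span ⟨Finsupp.single j 1, x, by simp [Finsupp.single_apply], rfl⟩

theorem evL_gen (v : Fin 3 → R) (j : Fin 3) (x : L) : evL R L v (gen j x) = v j • x := by
  simp [evL, gen]

theorem jacobson_zero_right (x : L) : jacobson R p x 0 = 0 := jacobson_eq_zero (lie_zero x)

theorem jacobson_zero_left (x : L) : jacobson R p 0 x = 0 := jacobson_eq_zero (zero_lie x)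

theorem jacobson_symm (x y : L) : jacobson R p x y = jacobson R p y x := by
  rw [← sub_eq_zero]
  let E : Pol R L := jacobson R p (gen (R := R) 0 x) (gen (R := R) 1 y) -
    jacobson R p (gen (R := R) 1 y) (gen (R := R) 0 x)
  have hE : ∀ v : Fin 3 → R, evL R L v E =
      jacobson R p (v 0 • x) (v 1 • y) - jacobson R p (v 1 • y) (v 0 • x) := by
    intro v
    simp only [E, map_sub, map_jacobson (evL R L v) (evL_lie v), evL_gen]
  have h := vanish (z := E) (sub_mem (jacobson_mem_Hm (gen_mem _ _) (gen_mem _ _))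
      (jacobson_mem_Hm (gen_mem _ _) (gen_mem _ _)))
    (fun i => Dv_eq_zero_of_rho (by
      simp only [E, map_sub, rho_jacobson]
      rw [add_comm (rho R L i (gen 1 y)) (rho R L i (gen 0 x))]
      abel))
    (fun j => by
      rw [hE]
      fin_cases j <;> simp [jacobson_zero_left, jacobson_zero_right])
  rw [hE] at h
  simpa using h

theorem jacobson_cocycle (x y z : L) :
    jacobson R p x y + jacobson R p (x + y) z = jacobson R p y z + jacobson R p x (y + z) := by
  rw [← sub_eq_zero]
  let a : Pol R L := gen 0 x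
  let b : Pol R L := gen 1 y
  let c : Pol R L := gen 2 z
  let E : Pol R L := jacobson R p a b + jacobson R p (a + b) c -
    (jacobson R p b c + jacobson R p a (b + c))
  have hE : ∀ v : Fin 3 → R, evL R L v E =
      jacobson R p (v 0 • x) (v 1 • y) + jacobson R p (v 0 • x + v 1 • y) (v 2 • z) -
      (jacobson R p (v 1 • y) (v 2 • z) + jacobson R p (v 0 • x) (v 1 • y + v 2 • z)) := by
    intro v
    simp only [E, a, b, c, map_sub, map_add, map_jacobson (evL R L v) (evL_lie v), evL_gen]
  have ha := gen_mem (R := R) 0 x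
  have hb := gen_mem (R := R) 1 y
  have hc := gen_mem (R := R) 2 z
  have h := vanish (z := E) (sub_mem
      (add_mem (jacobson_mem_Hm ha hb) (jacobson_mem_Hm (add_mem ha hb) hc))
      (add_mem (jacobson_mem_Hm hb hc) (jacobson_mem_Hm ha (add_mem hb hc))))
    (fun i => Dv_eq_zero_of_rho (by
      simp only [E, map_sub, map_add, rho_jacobson]
      rw [add_assoc (rho R L i a) (rho R L i b) (rho R L i c)]
      abel))
    (fun j => by
      rw [hE]
      fin_cases j <;> simp [jacobson_zero_left, jacobson_zero_right])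
  rw [hE] at h
  simpa using h

end Lie

section PMapExist

variable (R p)
variable (L : Type v) [LieRing L] [LieAlgebra R L]

/-- pairs `(x, a)` with `ad a = (ad x)^p` -/
@[ext]
structure Lift where
  fst : L
  snd : L
  cond : LieAlgebra.ad R L snd = LieAlgebra.ad R L fst ^ p

variable {R p L}

instance : Zero (Lift R p L) := ⟨⟨0, 0, by simp [zero_pow (Fact.out : p.Prime).ne_zero]⟩⟩

noncomputable instance : Add (Lift R p L) :=
  ⟨fun s t => ⟨s.fst + t.fst, s.snd + t.snd - jacobson R p s.fst t.fst, by
    rw [map_sub, map_add, s.cond, t.cond, ad_jacobson]; abel⟩⟩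

instance : SMul R (Lift R p L) :=
  ⟨fun c s => ⟨c • s.fst, c ^ p • s.snd, by
    rw [map_smul, map_smul, s.cond, smul_pow]⟩⟩

@[simp] theorem zero_fst : (0 : Lift R p L).fst = 0 := rfl
@[simp] theorem zero_snd : (0 : Lift R p L).snd = 0 := rfl
@[simp] theorem add_fst (s t : Lift R p L) : (s + t).fst = s.fst + t.fst := rfl
@[simp] theorem add_snd (s t : Lift R p L) :
    (s + t).snd = s.snd + t.snd - jacobson R p s.fst t.fst := rfl
@[simp] theorem smul_fst (c : R) (s : Lift R p L) : (c • s).fst = c • s.fst := rfl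
@[simp] theorem smul_snd (c : R) (s : Lift R p L) : (c • s).snd = c ^ p • s.snd := rfl

instance : Neg (Lift R p L) := ⟨fun s => (-1 : R) • s⟩

noncomputable instance : AddCommGroup (Lift R p L) where
  add_assoc s t w := by
    refine Lift.ext (by simp [add_assoc]) ?_
    simp only [add_snd, add_fst]
    have := jacobson_cocycle (R := R) (p := p) s.fst t.fst w.fst
    linear_combination (norm := abel) -(this)
  zero_add s := by ext <;> simp [jacobson_zero_left]
  add_zero s := by ext <;> simp [jacobson_zero_right]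
  nsmul := nsmulRec
  zsmul := zsmulRec
  neg_add_cancel s := by
    have h : ((-1 : R)) ^ p = -1 := by
      have := sub_pow_char (R := R) (p := p) (0 : R) 1
      simpa [zero_pow (Fact.out : p.Prime).ne_zero] using this
    change (-1 : R) • s + s = 0
    refine Lift.ext (by simp) ?_
    simp only [add_snd, smul_snd, smul_fst, zero_snd, h]
    rw [show jacobson R p ((-1 : R) • s.fst) s.fst = 0 from jacobson_eq_zero (by simp)]
    simp
  add_comm s t := by
    ext <;> simp [add_comm, jacobson_symm (R := R) (p := p) t.fst s.fst]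

noncomputable instance : Module R (Lift R p L) where
  one_smul s := by ext <;> simp
  mul_smul a b s := by ext <;> simp [smul_smul, mul_pow]
  smul_zero c := by ext <;> simp
  smul_add c s t := by
    ext <;> simp [smul_add, smul_sub, jacobson_smul]
  add_smul a b s := by
    ext <;> simp [add_smul, add_pow_char, jacobson_smul_smul]
  zero_smul s := by ext <;> simp [zero_pow (Fact.out : p.Prime).ne_zero]

/-- Jacobson: a p-mapping with prescribed values on a basis exists. -/
theorem exists_pmap_basis {ι : Type*} (b : Module.Basis ι R L) (y : ι → L)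
    (hy : ∀ i, LieAlgebra.ad R L (b i) ^ p = LieAlgebra.ad R L (y i)) :
    ∃ φ : PMap R p L, ∀ i, φ (b i) = y i := by
  let s : L →ₗ[R] Lift R p L := b.constr R (fun i => ⟨b i, y i, (hy i).symm⟩)
  let π : Lift R p L →ₗ[R] L := ⟨⟨Lift.fst, fun _ _ => rfl⟩, fun _ _ => rfl⟩
  have hs : ∀ x, (s x).fst = x := by
    have : π ∘ₗ s = LinearMap.id := b.ext fun i => by simp [s, π]
    exact fun x => LinearMap.congr_fun this x
  refine ⟨⟨fun x => (s x).snd, fun c x => by simp, fun x => by rw [(s x).cond, hs],
    fun x₀ x₁ => by simp [hs]⟩, fun i => ?_⟩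
  simp [s]

theorem pmap_ext_basis {ι : Type*} (b : Module.Basis ι R L) (φ ψ : PMap R p L)
    (h : ∀ i, φ (b i) = ψ (b i)) : φ = ψ := by
  let f : PMap R p L → (L →ₗ[R] Lift R p L) := fun χ =>
    ⟨⟨fun x => ⟨x, χ x, χ.ad_map x⟩, fun x y => Lift.ext rfl (χ.map_add x y)⟩,
      fun c x => Lift.ext rfl (χ.map_smul c x)⟩
  have : f φ = f ψ := b.ext fun i => Lift.ext rfl (h i)
  have h2 : φ.toFun = ψ.toFun := funext fun x => congrArg Lift.snd (LinearMap.congr_fun this x)
  cases φ; cases ψ; cases h2; rfl

end PMapExist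

end Groth.Agent.PLieLib
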